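import Groth.Agent.FlatLoc6.Depth
import Groth.Agent.FlatLoc6.NormFlat
import Groth.Agent.FComplLib.AdicUnit
import Groth.Agent.Alg6.LocLoc
import Mathlib.RingTheory.AdicCompletion.AsTensorProduct
import Mathlib.RingTheory.AdicCompletion.LocalRing

/-!
# Depth along completions at minimal primes of the fibre
-/

set_option autoImplicit false
set_option linter.style.haveILetI false
set_option maxHeartbeats 1000000

universe u

open IsLocalRing TensorProduct

namespace Groth.Agent.H6Boot

/-- The depth of a zero-dimensional local ring vanishes. -/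
theorem depth_eq_zero_of_dim_zero (R : Type u) [CommRing R] [IsLocalRing R] [IsNoetherianRing R]
    (h : ringKrullDim R = 0) : LocCoh.depth R R = 0 := by
  have h1 := LC.depth_le_supportDim (R := R) (M := R)
  rw [Module.supportDim_self_eq_ringKrullDim, h] at h1
  exact le_antisymm (by exact_mod_cast h1) zero_le

/-- Depth is unchanged along a flat map at a prime minimal in its fibre. -/
theorem depth_minimal_fibre {R B : Type u} [CommRing R] [IsNoetherianRing R] [CommRing B] [IsNoetherianRing B]
    [Algebra R B] [Module.Flat R B] {M : Type u} [AddCommGroup M] [Module R M] [Module.Finite R M]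
    {N : Type u} [AddCommGroup N] [Module R N] [Module B N] [IsScalarTower R B N] {f : M →ₗ[R] N}
    (hf : IsBaseChange B f) (P : Ideal R) [P.IsPrime] (P' : Ideal B) [P'.IsPrime] (hcomap : P'.comap (algebraMap R B) = P)
    (hmin : P' ∈ (P.map (algebraMap R B)).minimalPrimes) :
    LocCoh.depth (Localization.AtPrime P') (LocalizedModule P'.primeCompl N) =
      LocCoh.depth (Localization.AtPrime P) (LocalizedModule P.primeCompl M) := by
  let A₀ := Localization.AtPrime P
  let B₀ := Localization.AtPrime P'
  let φ : A₀ →+* B₀ := Localization.localRingHom P P' (algebraMap R B) hcomap.symm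
  letI : Algebra A₀ B₀ := φ.toAlgebra
  haveI : IsScalarTower R A₀ B₀ := IsScalarTower.of_algebraMap_eq fun r => by
    show algebraMap R B₀ r = φ (algebraMap R A₀ r)
    rw [Localization.localRingHom_to_map, ← IsScalarTower.algebraMap_apply]
  haveI : IsLocalHom (algebraMap A₀ B₀) := Localization.isLocalHom_localRingHom P P' (algebraMap R B) hcomap.symm
  haveI : IsNoetherianRing A₀ := IsLocalization.isNoetherianRing P.primeCompl A₀ inferInstance
  haveI : IsNoetherianRing B₀ := IsLocalization.isNoetherianRing P'.primeCompl B₀ inferInstance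
  haveI : Module.Flat R B₀ := Module.Flat.trans R B B₀
  haveI : Module.Flat A₀ B₀ := (Module.flat_iff_of_isLocalization A₀ P.primeCompl B₀).mpr inferInstance
  let MP := LocalizedModule P.primeCompl M
  haveI : Module.Finite A₀ MP := Module.Finite.of_isLocalizedModule P.primeCompl (LocalizedModule.mkLinearMap _ M)
  have h1 : IsBaseChange B₀
      (((TensorProduct.mk A₀ B₀ MP 1).restrictScalars R).comp (LocalizedModule.mkLinearMap P.primeCompl M)) :=
    (IsLocalizedModule.isBaseChange P.primeCompl A₀ (LocalizedModule.mkLinearMap P.primeCompl M)).comp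
      (TensorProduct.isBaseChange A₀ MP B₀)
  have h2 : IsBaseChange B₀ (((LocalizedModule.mkLinearMap P'.primeCompl N).restrictScalars R).comp f) :=
    hf.comp (IsLocalizedModule.isBaseChange P'.primeCompl B₀ (LocalizedModule.mkLinearMap P'.primeCompl N))
  let e : B₀ ⊗[A₀] MP ≃ₗ[B₀] LocalizedModule P'.primeCompl N := h1.equiv.symm.trans h2.equiv
  rw [← Hensel.depth_congr e]
  rcases subsingleton_or_nontrivial MP with h | h
  · rw [FlatLoc6.depth_top_of_subsingleton, FlatLoc6.depth_top_of_subsingleton]
  · rw [FlatLoc6.depth_tensor (A := A₀) (B := B₀) (N := B₀) MP]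
    have hdim : ringKrullDim (EGA4.FibRing A₀ B₀) = 0 := by
      have hmap : (maximalIdeal A₀).map (algebraMap A₀ B₀) = (P.map (algebraMap R B)).map (algebraMap B B₀) := by
        rw [← Localization.AtPrime.map_eq_maximalIdeal, Ideal.map_map, Ideal.map_map, ← IsScalarTower.algebraMap_eq,
          ← IsScalarTower.algebraMap_eq]
      haveI : Nontrivial (EGA4.FibRing A₀ B₀) := Ideal.Quotient.nontrivial_iff.mpr
        (ne_top_of_le_ne_top (maximalIdeal.isMaximal B₀).ne_top (map_maximalIdeal_le (algebraMap A₀ B₀)))
      haveI : Ring.KrullDimLE 0 (EGA4.FibRing A₀ B₀) := by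
        refine Ring.krullDimLE_zero_iff.2 fun Q hQ => ?_
        let Q₀ : Ideal B₀ := Q.comap (Ideal.Quotient.mk _)
        have hQ₀ : Q₀ = maximalIdeal B₀ := by
          refine IsLocalRing.eq_maximalIdeal ?_
          have hle : P.map (algebraMap R B) ≤ Q₀.comap (algebraMap B B₀) := by
            rw [← Ideal.map_le_iff_le_comap, ← hmap]
            intro x hx
            show Ideal.Quotient.mk _ x ∈ Q
            rw [Ideal.Quotient.eq_zero_iff_mem.2 hx]
            exact Q.zero_mem
          have h4 : Q₀.comap (algebraMap B B₀) ≤ P' := fun x hx => by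
            by_contra hxP
            exact (inferInstance : Q₀.IsPrime).ne_top
              (Ideal.eq_top_of_isUnit_mem _ hx (IsLocalization.map_units B₀ (⟨x, hxP⟩ : P'.primeCompl)))
          have h5 : P' ≤ Q₀.comap (algebraMap B B₀) := hmin.2 ⟨inferInstance, hle⟩ h4
          have h6 : Q₀ = maximalIdeal B₀ := by
            rw [← IsLocalization.map_comap P'.primeCompl B₀ Q₀, show Ideal.under B Q₀ = P' from le_antisymm h4 h5,
              Localization.AtPrime.map_eq_maximalIdeal]
          rw [h6]; infer_instance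
        haveI : (Q.comap (Ideal.Quotient.mk _)).IsMaximal := by
          rw [show Q.comap (Ideal.Quotient.mk _) = maximalIdeal B₀ from hQ₀]; infer_instance
        rw [← Ideal.map_comap_of_surjective _ Ideal.Quotient.mk_surjective Q]
        refine Ideal.IsMaximal.map_of_surjective_of_ker_le Ideal.Quotient.mk_surjective ?_
        rw [Ideal.mk_ker, show Q.comap (Ideal.Quotient.mk _) = maximalIdeal B₀ from hQ₀]
        exact map_maximalIdeal_le (algebraMap A₀ B₀)
      exact ringKrullDimZero_iff_ringKrullDim_eq_zero.1 inferInstance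
    haveI : IsLocalRing (EGA4.FibRing A₀ B₀) := by
      haveI : Nontrivial (EGA4.FibRing A₀ B₀) := Ideal.Quotient.nontrivial_iff.mpr
        (ne_top_of_le_ne_top (maximalIdeal.isMaximal B₀).ne_top (map_maximalIdeal_le (algebraMap A₀ B₀)))
      exact IsLocalRing.of_surjective' (Ideal.Quotient.mk _) Ideal.Quotient.mk_surjective
    let e₂ : EGA4.FibMod A₀ B₀ B₀ ≃ₗ[B₀] EGA4.FibRing A₀ B₀ :=
      Submodule.quotEquivOfEq _ _ (by rw [smul_eq_mul, Ideal.mul_top])
    have hd : LocCoh.depth (EGA4.FibRing A₀ B₀) (EGA4.FibMod A₀ B₀ B₀) =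
        LocCoh.depth (EGA4.FibRing A₀ B₀) (EGA4.FibRing A₀ B₀) := by
      refine Alg6.depth_eq_of_semilinear (RingHom.id _) Function.surjective_id e₂.toAddEquiv fun r x => ?_
      obtain ⟨r, rfl⟩ := Ideal.Quotient.mk_surjective r
      obtain ⟨x, rfl⟩ := Submodule.Quotient.mk_surjective _ x
      rfl
    rw [hd, depth_eq_zero_of_dim_zero _ hdim, add_zero]

/-- The completion of a local ring at a proper ideal has primes over each prime, minimal in the fibre. -/
theorem exists_minimal_over {R B : Type u} [CommRing R] [CommRing B] [Algebra R B] [Module.FaithfullyFlat R B]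
    (P : Ideal R) [P.IsPrime] :
    ∃ P' : Ideal B, P'.IsPrime ∧ P'.comap (algebraMap R B) = P ∧ P' ∈ (P.map (algebraMap R B)).minimalPrimes := by
  obtain ⟨⟨Q, hQ⟩, hQP⟩ := PrimeSpectrum.comap_surjective_of_faithfullyFlat (A := R) (B := B) ⟨P, inferInstance⟩
  have hQP : Q.comap (algebraMap R B) = P := congrArg PrimeSpectrum.asIdeal hQP
  haveI := hQ
  obtain ⟨P', hP', hle⟩ := Ideal.exists_minimalPrimes_le (show P.map (algebraMap R B) ≤ Q from
    Ideal.map_le_iff_le_comap.2 hQP.ge)
  haveI := hP'.1.1
  exact ⟨P', hP'.1.1, le_antisymm ((Ideal.comap_mono hle).trans hQP.le) (Ideal.map_le_iff_le_comap.1 hP'.1.2), hP'⟩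

end Groth.Agent.H6Boot
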